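import Cfsg.Agent.UnbalTriple.Triple

/-!
From balance of involution cores to a signalizer functor on all abelian 2-subgroups.
-/

set_option autoImplicit false
set_option linter.style.haveILetI false

namespace Cfsg.Agent.UnbalTriple

open Subgroup

local instance : Fact (Nat.Prime 2) := ⟨Nat.prime_two⟩

variable {G : Type*} [Group G] [Finite G]

/-- The functor `a ↦ O(C(a')) ∩ C(a)`, `a'` the involution power of `a`. -/
noncomputable def theta (a : G) : Subgroup G :=
  centralizerPPrimeCore 2 (a ^ (orderOf a / 2)) ⊓ centralizer ({a} : Set G)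

omit [Finite G] in
theorem theta_involution {a : G} (ha : orderOf a = 2) : theta a = centralizerPPrimeCore 2 a := by
  rw [theta, ha]
  norm_num
  exact centralizerPPrimeCore_le a

omit [Finite G] in
theorem map_centralizer_singleton (g x : G) :
    (centralizer ({x} : Set G)).map (MulAut.conj g).toMonoidHom =
      centralizer ({g * x * g⁻¹} : Set G) := by
  ext y
  constructor
  · rintro ⟨z, hz, rfl⟩
    refine mem_centralizer_singleton_iff.2 ?_
    show g * z * g⁻¹ * (g * x * g⁻¹) = g * x * g⁻¹ * (g * z * g⁻¹)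
    calc g * z * g⁻¹ * (g * x * g⁻¹) = g * (z * x) * g⁻¹ := by group
      _ = g * (x * z) * g⁻¹ := by rw [mem_centralizer_singleton_iff.1 hz]
      _ = _ := by group
  · intro hy
    refine ⟨g⁻¹ * y * g, mem_centralizer_singleton_iff.2 ?_, by show g * _ * g⁻¹ = y; group⟩
    calc g⁻¹ * y * g * x = g⁻¹ * (y * (g * x * g⁻¹)) * g := by group
      _ = g⁻¹ * ((g * x * g⁻¹) * y) * g := by rw [mem_centralizer_singleton_iff.1 hy]
      _ = _ := by group

theorem map_centralizerPPrimeCore (g x : G) :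
    (centralizerPPrimeCore 2 x).map (MulAut.conj g).toMonoidHom =
      centralizerPPrimeCore 2 (g * x * g⁻¹) := by
  have key : ∀ g x : G, (centralizerPPrimeCore 2 x).map (MulAut.conj g).toMonoidHom ≤
      centralizerPPrimeCore 2 (g * x * g⁻¹) := by
    intro g x
    let f : centralizer ({x} : Set G) →* centralizer ({g * x * g⁻¹} : Set G) :=
      ((MulAut.conj g).toMonoidHom.comp (centralizer ({x} : Set G)).subtype).codRestrict _
        fun y => (map_centralizer_singleton g x).le (mem_map_of_mem _ y.2)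
    have hf : Function.Surjective f := by
      intro y
      obtain ⟨z, hz, hzy⟩ := (map_centralizer_singleton g x).ge y.2
      exact ⟨⟨z, hz⟩, Subtype.ext hzy⟩
    rintro _ ⟨_, ⟨d, hd, rfl⟩, rfl⟩
    refine ⟨f d, ?_, rfl⟩
    haveI : ((pPrimeCore 2 (centralizer ({x} : Set G))).map f).Normal :=
      (inferInstance : (pPrimeCore 2 (centralizer ({x} : Set G))).Normal).map f hf
    exact Thompson.le_pPrimeCore inferInstance
      (Thompson.card_pPrimeCore_coprime.coprime_dvd_left (card_map_dvd _ f)) (mem_map_of_mem f hd)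
  refine le_antisymm (key g x) fun y hy => ?_
  have h := key g⁻¹ (g * x * g⁻¹) (mem_map_of_mem _ hy)
  rw [show g⁻¹ * (g * x * g⁻¹) * g⁻¹⁻¹ = x by group] at h
  exact ⟨_, h, by show g * (g⁻¹ * y * g⁻¹⁻¹) * g⁻¹ = y; group⟩

theorem theta_conj (g a : G) : theta (g * a * g⁻¹) = (theta a).map (MulAut.conj g).toMonoidHom := by
  rw [theta, theta, show g * a * g⁻¹ = MulAut.conj g a from rfl, MulEquiv.orderOf_eq, ← map_pow,
    map_inf _ _ _ (MulAut.conj g).injective, map_centralizerPPrimeCore, map_centralizer_singleton]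
  rfl

theorem isSignalizerFunctor_theta
    (hbal : ∀ a x : G, orderOf a = 2 → orderOf x = 2 → Commute a x →
      centralizerPPrimeCore 2 x ⊓ centralizer ({a} : Set G) ≤ centralizerPPrimeCore 2 a)
    (B : Subgroup G) (hB : IsMulCommutative B) (hB2 : IsPGroup 2 B) :
    IsSignalizerFunctor 2 B theta := by
  have hcomm : ∀ a ∈ B, ∀ b ∈ B, Commute a b := fun a ha b hb =>
    congrArg Subtype.val (hB.1.1 (⟨a, ha⟩ : B) ⟨b, hb⟩)
  have hinv : ∀ a ∈ B, a ≠ 1 → orderOf (a ^ (orderOf a / 2)) = 2 := by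
    intro a ha ha1
    obtain ⟨k0, hk0⟩ := hB2 ⟨a, ha⟩
    obtain ⟨k, -, hk⟩ := (Nat.dvd_prime_pow Nat.prime_two).1 (orderOf_dvd_of_pow_eq_one
      (congrArg Subtype.val hk0 : a ^ 2 ^ k0 = 1))
    obtain ⟨j, rfl⟩ : ∃ j, k = j + 1 := ⟨k - 1, by
      rcases Nat.eq_zero_or_pos k with rfl | h
      · exact absurd (orderOf_eq_one_iff.1 hk) ha1
      · omega⟩
    rw [hk, pow_succ, Nat.mul_div_cancel _ two_pos, orderOf_pow, hk,
      Nat.gcd_eq_right (pow_dvd_pow 2 (Nat.le_succ j)), pow_succ,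
      Nat.mul_div_cancel_left _ (Nat.two_pow_pos j)]
  refine ⟨fun a _ _ => inf_le_right, fun a ha ha1 h2 => ?_, fun a ha ha1 b hb y hy => ?_,
    fun a ha ha1 b hb hb1 y hy => ?_⟩
  · have h := h2.trans (card_dvd_of_le (inf_le_left : theta a ≤ _))
    exact (Nat.not_even_iff_odd.2 (odd_centralizerPPrimeCore _)) (even_iff_two_dvd.2 h)
  · exact ⟨conj_mem_centralizerPPrimeCore
      (mem_centralizer_singleton_iff.2 ((hcomm b hb _ (pow_mem ha _)).eq)) hy.1,
      (centralizer ({a} : Set G)).mul_mem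
        ((centralizer ({a} : Set G)).mul_mem (mem_centralizer_singleton_iff.2 (hcomm b hb a ha).eq) hy.2)
        ((centralizer ({a} : Set G)).inv_mem (mem_centralizer_singleton_iff.2 (hcomm b hb a ha).eq))⟩
  · refine ⟨hbal _ _ (hinv b hb hb1) (hinv a ha ha1) ((hcomm b hb a ha).pow_pow _ _) ⟨hy.1.1, ?_⟩,
      hy.2⟩
    exact mem_centralizer_singleton_iff.2
      ((Commute.pow_right (mem_centralizer_singleton_iff.1 hy.2 : Commute y b) _).eq)

/-- Every involution of a Sylow 2-subgroup with a normal abelian subgroup of rank at least three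
lies in an abelian 2-subgroup of rank at least three. -/
theorem exists_rank_three (S : Sylow 2 G) (A : Subgroup ↥(S : Subgroup G)) (hAn : A.Normal)
    (hAab : IsMulCommutative ↥A) (hA3 : ¬ PRankLE 2 2 ↥A) (t : G) (ht : orderOf t = 2) :
    ∃ B : Subgroup G, IsMulCommutative ↥B ∧ IsPGroup 2 ↥B ∧ ¬ PRankLE 2 2 ↥B ∧ t ∈ B := by
  classical
  -- move `t` into `S`
  have htp : IsPGroup 2 (zpowers t) :=
    IsPGroup.of_card (p := 2) (n := 1) (by rw [Nat.card_zpowers, ht, pow_one])
  obtain ⟨P, hP⟩ := htp.exists_le_sylow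
  obtain ⟨g, hg⟩ := MulAction.exists_smul_eq G P S
  have htS : g * t * g⁻¹ ∈ (S : Subgroup G) := by
    rw [← hg, Sylow.coe_subgroup_smul]
    exact ⟨t, hP (mem_zpowers t), rfl⟩
  suffices h : ∀ s : ↥(S : Subgroup G), s * s = 1 → ∃ B : Subgroup ↥(S : Subgroup G),
      (∀ u ∈ B, ∀ v ∈ B, Commute u v) ∧ (∀ u ∈ B, u * u = 1) ∧ 4 < Nat.card B ∧ s ∈ B by
    obtain ⟨B, hBc, hB1, hB4, hsB⟩ := h ⟨g * t * g⁻¹, htS⟩ (Subtype.ext (by
      show g * t * g⁻¹ * (g * t * g⁻¹) = 1
      rw [show g * t * g⁻¹ * (g * t * g⁻¹) = g * (t * t) * g⁻¹ by group, ← pow_two, ← ht,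
        pow_orderOf_eq_one]
      group))
    let f : ↥(S : Subgroup G) →* G := (MulAut.conj g⁻¹).toMonoidHom.comp (S : Subgroup G).subtype
    have hf : Function.Injective f :=
      (MulAut.conj g⁻¹).injective.comp (S : Subgroup G).subtype_injective
    have hB2 : ∀ u ∈ B.map f, u * u = 1 := by
      rintro _ ⟨u, hu, rfl⟩; rw [← map_mul, hB1 u hu, map_one]
    refine ⟨B.map f, ⟨⟨fun u v => Subtype.ext ?_⟩⟩, fun u => ⟨1, Subtype.ext ?_⟩, fun h => ?_,
      ⟨_, hsB, by show g⁻¹ * (g * t * g⁻¹) * g⁻¹⁻¹ = t; group⟩⟩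
    · obtain ⟨u', hu', hu⟩ := u.2
      obtain ⟨v', hv', hv⟩ := v.2
      show (u : G) * v = v * u
      rw [← hu, ← hv, ← map_mul, ← map_mul, (hBc u' hu' v' hv').eq]
    · show (u : G) ^ 2 ^ 1 = 1
      rw [pow_one, pow_two]; exact hB2 _ u.2
    · have h4 := h ⊤ ⟨⟨fun u v => Subtype.ext (Subtype.ext (by
        obtain ⟨u', hu', hu⟩ := (u : B.map f).2
        obtain ⟨v', hv', hv⟩ := (v : B.map f).2
        show ((u : B.map f) : G) * (v : B.map f) = (v : B.map f) * (u : B.map f)
        rw [← hu, ← hv, ← map_mul, ← map_mul, (hBc u' hu' v' hv').eq]))⟩⟩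
        (fun u _ => Subtype.ext (by show (u : G) ^ 2 = 1; rw [pow_two]; exact hB2 _ u.2))
      rw [card_top, ← Nat.card_congr (equivMapOfInjective B f hf).toEquiv] at h4
      omega
  intro s hs
  have hcA : ∀ u ∈ A, ∀ v ∈ A, Commute u v := fun u hu v hv =>
    congrArg Subtype.val (hAab.1.1 (⟨u, hu⟩ : A) ⟨v, hv⟩)
  let V : Subgroup ↥(S : Subgroup G) :=
    { carrier := {v | v ∈ A ∧ v * v = 1}
      one_mem' := ⟨one_mem _, one_mul 1⟩
      mul_mem' := fun {u v} hu hv => ⟨mul_mem hu.1 hv.1, by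
        rw [(hcA v hv.1 u hu.1).mul_mul_mul_comm, hu.2, hv.2, one_mul]⟩
      inv_mem' := fun {u} hu => ⟨inv_mem hu.1, by rw [← mul_inv_rev, hu.2, inv_one]⟩ }
  have hV4 : 4 < Nat.card V := by
    by_contra hle
    refine hA3 fun W hW hW2 => ?_
    have hWV : W.map A.subtype ≤ V := by
      rintro _ ⟨w, hw, rfl⟩
      exact ⟨w.2, by rw [← map_mul, ← pow_two, hW2 w hw, map_one]⟩
    have := card_dvd_of_le hWV
    rw [← Nat.card_congr (equivMapOfInjective W A.subtype A.subtype_injective).toEquiv] at this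
    exact (Nat.le_of_dvd Nat.card_pos this).trans (by omega)
  have hVc : ∀ u ∈ V, ∀ v ∈ V, Commute u v := fun u hu v hv => hcA u hu.1 v hv.1
  by_cases hsV : s ∈ V
  · exact ⟨V, hVc, fun u hu => hu.2, hV4, hsV⟩
  have hsi : s⁻¹ = s := inv_eq_of_mul_eq_one_right hs
  have hsVmem : ∀ v ∈ V, s * v * s⁻¹ ∈ V := fun v hv => ⟨hAn.conj_mem v hv.1 s, by
    rw [show s * v * s⁻¹ * (s * v * s⁻¹) = s * (v * v) * s⁻¹ by group, hv.2]; group⟩
  let φ : V →* V :=
    { toFun := fun v => ⟨v * (s * v * s⁻¹), V.mul_mem v.2 (hsVmem v v.2)⟩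
      map_one' := Subtype.ext (by simp)
      map_mul' := fun u v => Subtype.ext (by
        show (u : ↥(S : Subgroup G)) * v * (s * (u * v) * s⁻¹) =
          u * (s * u * s⁻¹) * (v * (s * v * s⁻¹))
        have hc := hVc v v.2 _ (hsVmem u u.2)
        calc (u : ↥(S : Subgroup G)) * v * (s * (u * v) * s⁻¹)
            = u * (v * (s * u * s⁻¹)) * (s * v * s⁻¹) := by group
          _ = u * ((s * u * s⁻¹) * v) * (s * v * s⁻¹) := by rw [hc.eq]
          _ = _ := by group) }
  have hker : ∀ v : V, v ∈ φ.ker ↔ s * v * s⁻¹ = (v : ↥(S : Subgroup G)) := by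
    intro v
    rw [MonoidHom.mem_ker, Subtype.ext_iff]
    show (v : ↥(S : Subgroup G)) * (s * v * s⁻¹) = 1 ↔ _
    rw [mul_eq_one_iff_eq_inv', inv_eq_of_mul_eq_one_right v.2.2]
  have hrange : φ.range ≤ φ.ker := by
    rintro _ ⟨v, rfl⟩
    rw [hker]
    show s * ((v : ↥(S : Subgroup G)) * (s * v * s⁻¹)) * s⁻¹ = v * (s * v * s⁻¹)
    calc s * ((v : ↥(S : Subgroup G)) * (s * v * s⁻¹)) * s⁻¹
        = (s * v * s⁻¹) * ((s * s) * v * (s * s)⁻¹) := by group
      _ = (s * v * s⁻¹) * v := by rw [hs]; group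
      _ = _ := (hVc _ (hsVmem v v.2) _ v.2).eq
  have hk : 3 ≤ Nat.card φ.ker := by
    have h1 := card_mul_index φ.ker
    rw [index_ker] at h1
    have h2 := Nat.le_of_dvd Nat.card_pos (card_dvd_of_le hrange)
    nlinarith
  let F := φ.ker.map V.subtype
  have hFc : ∀ u ∈ F, Commute s u := by
    rintro _ ⟨u, hu, rfl⟩
    exact mul_inv_eq_iff_eq_mul.1 ((hker u).1 hu)
  refine ⟨F ⊔ zpowers s, ?_, ?_, ?_, mem_sup_right (mem_zpowers s)⟩
  · intro u hu v hv
    have hle : F ⊔ zpowers s ≤ centralizer ((F ⊔ zpowers s : Subgroup _) : Set _) := by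
      refine sup_le (le_centralizer_iff.1 (sup_le ?_ ?_)) (le_centralizer_iff.1 (sup_le ?_ ?_))
      · rintro a ⟨a', -, rfl⟩
        exact mem_centralizer_iff.2 fun b hb => (hVc b (map_subtype_le _ hb) _ a'.2).eq
      · rw [zpowers_le]; exact mem_centralizer_iff.2 fun b hb => (hFc b hb).eq.symm
      · intro a ha
        refine mem_centralizer_iff.2 fun b hb => ?_
        obtain ⟨i, rfl⟩ := mem_zpowers_iff.1 hb
        exact ((hFc a ha).zpow_left i).eq
      · intro a ha
        refine mem_centralizer_iff.2 fun b hb => ?_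
        obtain ⟨i, rfl⟩ := mem_zpowers_iff.1 hb
        obtain ⟨j, rfl⟩ := mem_zpowers_iff.1 ha
        exact (Commute.zpow_zpow_self s i j).eq
    exact (mem_centralizer_iff.1 (hle hv) u hu)
  · intro u hu
    rw [sup_comm, ← SetLike.mem_coe, coe_mul_of_left_le_normalizer_right] at hu
    · obtain ⟨a, ha, b, hb, rfl⟩ := hu
      obtain ⟨i, rfl⟩ := mem_zpowers_iff.1 ha
      have hc : Commute (s ^ i) b := (hFc b hb).zpow_left i
      show s ^ i * b * (s ^ i * b) = 1
      rw [hc.symm.mul_mul_mul_comm, (map_subtype_le _ hb : b ∈ V).2, mul_one, ← zpow_add,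
        ← two_mul, zpow_mul, zpow_two, hs, one_zpow]
    · rw [zpowers_le]
      exact centralizer_le_normalizer _ (mem_centralizer_iff.2 fun b hb => (hFc b hb).eq.symm)
  · have hFcard : Nat.card F = Nat.card φ.ker :=
      (Nat.card_congr (equivMapOfInjective _ V.subtype V.subtype_injective).toEquiv).symm
    have hlt : F < F ⊔ zpowers s := lt_of_le_of_ne le_sup_left fun h =>
      hsV (map_subtype_le _ (h.ge (mem_sup_right (mem_zpowers s))))
    have hdvd := card_dvd_of_le hlt.le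
    obtain ⟨c, hc⟩ := hdvd
    rcases Nat.lt_or_ge c 2 with hc2 | hc2
    · refine absurd (eq_of_le_of_card_ge hlt.le ?_) hlt.ne
      rw [hc]; nlinarith
    · rw [hc]; nlinarith

/-- The statement of S3111 from the vanishing theorem for signalizer functors. -/
theorem triple_or_cores_trivial [IsSimpleGroup G] (hG : ¬ IsMulCommutative G)
    (S : Sylow 2 G) (A : Subgroup ↥(S : Subgroup G)) (hAn : A.Normal) (hAab : IsMulCommutative ↥A)
    (hA3 : ¬ PRankLE 2 2 ↥A)
    (hvan : oddCore G = ⊥ → ∀ θ : G → Subgroup G,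
      (∀ g a : G, θ (g * a * g⁻¹) = (θ a).map (MulAut.conj g).toMonoidHom) →
      (∀ B : Subgroup G, IsMulCommutative ↥B → IsPGroup 2 ↥B → ¬ PRankLE 2 2 ↥B →
        IsSignalizerFunctor 2 B θ) →
      ∀ B : Subgroup G, IsMulCommutative ↥B → IsPGroup 2 ↥B → ¬ PRankLE 2 2 ↥B →
        ∀ a ∈ B, orderOf a = 2 → θ a = ⊥) :
    (∀ t : G, orderOf t = 2 → centralizerPPrimeCore 2 t = ⊥) ∨
      ∃ (a x : G) (L : Subgroup ↥(centralizer ({a} : Set G))), orderOf a = 2 ∧ orderOf x = 2 ∧
        Commute a x ∧ IsPComponent 2 L ∧ (∀ l ∈ L.map (centralizer ({a} : Set G)).subtype,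
        x * l * x⁻¹ ∈ L.map (centralizer ({a} : Set G)).subtype) ∧
        L.map (centralizer ({a} : Set G)).subtype =
          (oddCore ↥L).map ((centralizer ({a} : Set G)).subtype.comp L.subtype) ⊔
            ⁅L.map (centralizer ({a} : Set G)).subtype,
              centralizerPPrimeCore 2 x ⊓ centralizer ({a} : Set G)⁆ := by
  refine or_iff_not_imp_right.2 fun h t ht => ?_
  have hO : oddCore G = ⊥ := by
    rcases (inferInstance : (pPrimeCore 2 G).Normal).eq_bot_or_eq_top with h1 | h1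
    · exact h1
    · exfalso
      have hodd : Odd (Nat.card G) := by
        rw [← card_top (G := G), ← h1]
        exact Nat.coprime_two_right.1 Thompson.card_pPrimeCore_coprime
      have hdvd : orderOf t ∣ Nat.card G := orderOf_dvd_natCard t
      rw [ht] at hdvd
      exact (Nat.not_even_iff_odd.2 hodd) (even_iff_two_dvd.2 hdvd)
  obtain ⟨B, hBc, hB2, hBr, htB⟩ := exists_rank_three S A hAn hAab hA3 t ht
  rw [← theta_involution ht]
  exact hvan hO theta theta_conj
    (fun B' hB' hB2' _ => isSignalizerFunctor_theta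
      (fun a x ha hx hax => balanced_of_no_triple h ha hx hax) B' hB' hB2') B hBc hB2 hBr t htB ht

end Cfsg.Agent.UnbalTriple
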