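import Cfsg.Prelude.Def_CaseTheorems
import Cfsg.Agent.Lib.Components.PComponents
import Cfsg.Agent.Lib.Coprime.Action
import Cfsg.Agent.PF14.Compose

/-!
A failure of balance produces a component moved by the core of the other centralizer.
-/

set_option autoImplicit false
set_option linter.style.haveILetI false

namespace Cfsg.Agent.UnbalTriple

open Subgroup
open scoped commutatorElement

variable {Q : Type*} [Group Q] [Finite Q]

local instance : Fact (Nat.Prime 2) := ⟨Nat.prime_two⟩

/-- The normalized 2-power element of a component which is fixed modulo the centre. -/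
theorem exists_two_element {L : Subgroup Q} (hL : IsComponent L) {x : Q}
    (hx : x * x = 1) (hxL : x ∈ normalizer (L : Set Q)) :
    ∃ k ∈ L, (∃ m : ℕ, k ^ 2 ^ m = 1) ∧ k ∉ centralizer (L : Set Q) ∧
      k⁻¹ * (x * k * x⁻¹) ∈ centralizer (L : Set Q) := by
  classical
  let S := normalizer (L : Set Q)
  have hxp : IsPGroup 2 (zpowers (⟨x, hxL⟩ : S)) := by
    rintro ⟨y, hy⟩
    obtain ⟨i, rfl⟩ := mem_zpowers_iff.1 hy
    refine ⟨1, Subtype.ext ?_⟩
    show ((⟨x, hxL⟩ : S) ^ i) ^ (2 ^ 1) = 1
    rw [pow_one, ← zpow_natCast, ← zpow_mul, mul_comm, zpow_mul, zpow_natCast,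
      show (⟨x, hxL⟩ : S) ^ 2 = 1 from Subtype.ext (by simpa [pow_two] using hx), one_zpow]
  obtain ⟨P, hP⟩ := hxp.exists_le_sylow
  have hxP : (⟨x, hxL⟩ : S) ∈ (P : Subgroup S) := hP (mem_zpowers _)
  have hCn : ∀ g : S, ∀ c ∈ centralizer (L : Set Q), (g : Q) * c * (g : Q)⁻¹ ∈
      centralizer (L : Set Q) := fun g c hc =>
    Coprime.conj_mem_of_mem_normalizer
      (Coprime.le_normalizer_centralizer (A := S) (H := L) le_rfl g.2) hc
  -- some 2-element of the component in `P` is not central
  obtain ⟨k0, hk0L, hk0P, hk0C⟩ : ∃ k : S, (k : Q) ∈ L ∧ k ∈ (P : Subgroup S) ∧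
      (k : Q) ∉ centralizer (L : Set Q) := by
    by_contra hcon
    push Not at hcon
    have hall : ∀ k ∈ L, ∀ m : ℕ, k ^ 2 ^ m = 1 → k ∈ centralizer (L : Set Q) := by
      intro k hk m hm
      have hkS : k ∈ S := le_normalizer hk
      have hkp : IsPGroup 2 (zpowers (⟨k, hkS⟩ : S)) := by
        rintro ⟨y, hy⟩
        obtain ⟨i, rfl⟩ := mem_zpowers_iff.1 hy
        refine ⟨m, Subtype.ext ?_⟩
        show ((⟨k, hkS⟩ : S) ^ i) ^ (2 ^ m) = 1
        rw [← zpow_natCast, ← zpow_mul, mul_comm, zpow_mul, zpow_natCast,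
          show (⟨k, hkS⟩ : S) ^ (2 ^ m) = 1 from Subtype.ext (by simpa using hm), one_zpow]
      obtain ⟨P', hP'⟩ := hkp.exists_le_sylow
      obtain ⟨g, hg⟩ := MulAction.exists_smul_eq S P' P
      have h1 : g * ⟨k, hkS⟩ * g⁻¹ ∈ (P : Subgroup S) := by
        rw [← hg, Sylow.coe_subgroup_smul]
        exact ⟨⟨k, hkS⟩, hP' (mem_zpowers _), rfl⟩
      have h2 : ((g * ⟨k, hkS⟩ * g⁻¹ : S) : Q) ∈ L := (mem_normalizer_iff.1 g.2 k).1 hk
      have h3 := hCn g⁻¹ _ (hcon _ h2 h1)
      simpa [mul_assoc] using h3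
    refine component_not_isSolvable_aux hL ?_
    by_contra hodd
    rw [Nat.not_odd_iff_even, even_iff_two_dvd] at hodd
    obtain ⟨q, hq⟩ := exists_prime_orderOf_dvd_card' 2 hodd
    obtain ⟨w, rfl⟩ := QuotientGroup.mk'_surjective (center L) q
    obtain ⟨e, m, hm, hem⟩ :=
      Nat.exists_eq_pow_mul_and_not_dvd (orderOf_pos w).ne' 2 (by decide)
    have hwm : ((w ^ m : L) : Q) ∈ centralizer (L : Set Q) := by
      refine hall _ (w ^ m).2 e ?_
      rw [← SubmonoidClass.coe_pow, ← pow_mul, mul_comm, ← hem, pow_orderOf_eq_one]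
      rfl
    have : QuotientGroup.mk' (center L) w ^ m = 1 := by
      rw [← map_pow, QuotientGroup.mk'_apply, QuotientGroup.eq_one_iff]
      exact mem_center_iff.2 fun g => Subtype.ext (mem_centralizer_iff.1 hwm g g.2)
    exact hm (hq ▸ orderOf_dvd_of_pow_eq_one this)
  -- descend along the lower central series of `P`
  obtain ⟨n, hn⟩ := Subgroup.nilpotent_iff_lowerCentralSeries.1
    (P.2.isNilpotent : Group.IsNilpotent (P : Subgroup S))
  let Γ : ℕ → Subgroup S := fun i =>
    ((⊤ : Subgroup (P : Subgroup S)).lowerCentralSeries i).map (P : Subgroup S).subtype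
  have hend : ¬ ∃ k ∈ Γ n, (k : Q) ∈ L ∧ (k : Q) ∉ centralizer (L : Set Q) := by
    rintro ⟨k, hk, -, hkC⟩
    refine hkC ?_
    simp only [Γ, hn, Subgroup.map_bot, mem_bot] at hk
    rw [hk]
    exact one_mem _
  have hbase : ∃ k ∈ Γ 0, (k : Q) ∈ L ∧ (k : Q) ∉ centralizer (L : Set Q) :=
    ⟨k0, ⟨⟨k0, hk0P⟩, by simp, rfl⟩, hk0L, hk0C⟩
  obtain ⟨i, ⟨k, hk, hkL, hkC⟩, hnext⟩ : ∃ i, (∃ k ∈ Γ i, (k : Q) ∈ L ∧
      (k : Q) ∉ centralizer (L : Set Q)) ∧
      ¬ ∃ k ∈ Γ (i + 1), (k : Q) ∈ L ∧ (k : Q) ∉ centralizer (L : Set Q) := by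
    by_contra hcon
    push Not at hcon
    refine hend ?_
    clear hend hn
    induction n with
    | zero => exact hbase
    | succ n ih => exact hcon n ih
  push Not at hnext
  obtain ⟨kP, hkP, rfl⟩ := hk
  refine ⟨_, hkL, ?_, hkC, ?_⟩
  · obtain ⟨m, hm⟩ := P.2 kP
    exact ⟨m, congrArg (fun t : (P : Subgroup S) => ((t : S) : Q)) hm⟩
  · set xP : (P : Subgroup S) := ⟨⟨x, hxL⟩, hxP⟩
    refine hnext (((kP⁻¹ * (xP * kP * xP⁻¹) : (P : Subgroup S)) : S))
      (mem_map_of_mem (P : Subgroup S).subtype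
        (?_ : (kP⁻¹ * (xP * kP * xP⁻¹)) ∈ (⊤ : Subgroup (P : Subgroup S)).lowerCentralSeries (i + 1)))
      (L.mul_mem (L.inv_mem hkL) ((mem_normalizer_iff.1 hxL _).1 hkL))
    rw [Subgroup.lowerCentralSeries_succ]
    have h := commutator_mem_commutator ((Subgroup.lowerCentralSeries_normal _ i).conj_mem _
      (inv_mem hkP) 1) (mem_top xP)
    simpa [commutatorElement_def, mul_assoc] using h
where
  component_not_isSolvable_aux {L : Subgroup Q} (hL : IsComponent L)
      (h : Odd (Nat.card (L ⧸ center L))) : False := by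
    haveI : Group.IsSolvable (L ⧸ center L) := PF14.feitThompson _ h
    haveI : Group.IsSolvable (center L) :=
      Group.isSolvable_of_comm fun a b => Subtype.ext (mem_center_iff.1 b.2 a)
    exact Components.component_not_isSolvable hL
      (Group.isSolvable_of_ker_le_range (center L).subtype (QuotientGroup.mk' (center L))
        (by rw [QuotientGroup.ker_mk', range_subtype]))

omit [Finite Q] in
theorem mem_of_odd_pow {H : Subgroup Q} {k : Q} {m n : ℕ} (hm : k ^ 2 ^ m = 1) (hn : Odd n)
    (h : k ^ n ∈ H) : k ∈ H := by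
  have hc : Nat.Coprime (2 ^ m) n := (Nat.coprime_two_left.2 hn).pow_left m
  have h1 : k ^ ((2 ^ m).gcd n : ℕ) ∈ H := by
    rw [← zpow_natCast, Nat.gcd_eq_gcd_ab, zpow_add, zpow_mul, zpow_mul, zpow_natCast,
      zpow_natCast, hm, one_zpow, one_mul]
    exact zpow_mem h _
  rwa [hc.gcd_eq_one, pow_one] at h1

omit [Finite Q] in
theorem conj_commute {L : Subgroup Q} {a b : Q} (h : ∀ l ∈ L, Commute b l) (g : Q) (ha : a ∈ L) :
    Commute (g * b * g⁻¹) (g * a * g⁻¹) := (h a ha).map (MulAut.conj g)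

/-- The main lemma in the quotient by the core. -/
theorem exists_moved_component (hO : pPrimeCore 2 Q = ⊥) {x : Q} (hx : x * x = 1)
    (D : Subgroup Q) (hodd : Odd (Nat.card D)) (hDx : ∀ d ∈ D, d * x = x * d)
    (hnorm : ∀ c : Q, c * x = x * c → ∀ d ∈ D, c * d * c⁻¹ ∈ D) (hne : D ≠ ⊥) :
    ∃ L : Subgroup Q, IsComponent L ∧ x ∈ normalizer (L : Set Q) ∧
      D ≤ normalizer (L : Set Q) ∧ ¬ D ≤ centralizer (L : Set Q) := by
  classical
  by_contra hcon
  push Not at hcon
  set n := Nat.card D with hn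
  have hpown : ∀ d ∈ D, d ^ n = 1 := fun d hd =>
    congrArg Subtype.val (pow_card_eq_one' (G := D) (x := ⟨d, hd⟩))
  let P2 := pCore 2 Q
  have hP2 : IsPGroup 2 P2 := Thompson.isPGroup_pCore
  have hDP2 : D ≤ centralizer (P2 : Set Q) := by
    refine Coprime.thompson_pxq 2 (zpowers x) D P2 ?_ (Nat.coprime_two_right.2 hodd) hP2 ?_ ?_ ?_ ?_
    · rintro ⟨y, hy⟩
      obtain ⟨i, rfl⟩ := mem_zpowers_iff.1 hy
      refine ⟨1, Subtype.ext ?_⟩
      show (x ^ i) ^ (2 ^ 1) = 1
      rw [pow_one, ← zpow_natCast, ← zpow_mul, mul_comm, zpow_mul, zpow_natCast, pow_two, hx,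
        one_zpow]
    · rw [zpowers_le, mem_centralizer_iff]
      exact fun d hd => hDx d hd
    · rw [normalizer_eq_top_iff.2 inferInstance]; exact le_top
    · rw [normalizer_eq_top_iff.2 inferInstance]; exact le_top
    · rintro u ⟨hu, huc⟩
      refine mem_centralizer_iff.2 fun d hd => ?_
      have hux : u * x = x * u := (mem_centralizer_iff.1 huc x (mem_zpowers x)).symm
      have h1 : d * u * d⁻¹ * u⁻¹ ∈ D := by
        have h := mul_mem hd (hnorm u hux _ (inv_mem hd))
        simpa [mul_assoc] using h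
      have h2 : d * u * d⁻¹ * u⁻¹ ∈ P2 :=
        mul_mem ((inferInstance : P2.Normal).conj_mem u hu d) (inv_mem hu)
      have hcop : (Nat.card D).Coprime (Nat.card P2) := by
        obtain ⟨j, hj⟩ := IsPGroup.iff_card.1 hP2
        rw [hj]
        exact (Nat.coprime_two_right.2 hodd).pow_right j
      have h3 := Coprime.inf_eq_bot_of_coprime' hcop h1 h2
      exact mul_inv_eq_iff_eq_mul.1 (mul_inv_eq_one.1 h3)
  have hcomm : ∀ {M M' : Subgroup Q}, IsComponent M → IsComponent M' → M ≠ M' →
      ∀ a ∈ M, ∀ b ∈ M', Commute a b := fun hM hM' h a ha b hb =>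
    (mem_centralizer_iff.1 (Components.component_le_centralizer hM hM' h ha) b hb).symm
  have hcen : ∀ {L : Subgroup Q}, IsComponent L → ∀ z ∈ L, z ∈ centralizer (L : Set Q) →
      ∀ d ∈ D, d * z * d⁻¹ = z := by
    intro L hL z hzL hzC d hd
    have hz : z ∈ P2 := by
      refine Components.map_center_layer_le_pCore hO
        ⟨⟨z, Components.component_le_layer hL hzL⟩, mem_center_iff.2 fun g => ?_, rfl⟩
      refine Subtype.ext ?_
      have hle : layer Q ≤ centralizer ({z} : Set Q) := Components.layer_le_iff.2 fun M hM a ha => by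
        rw [mem_centralizer_singleton_iff]
        rcases eq_or_ne M L with rfl | h
        · exact mem_centralizer_iff.1 hzC a ha
        · exact (hcomm hM hL h a ha z hzL).eq
      exact mem_centralizer_singleton_iff.1 (hle g.2)
    rw [mul_inv_eq_iff_eq_mul]
    exact (mem_centralizer_iff.1 (hDP2 hd) z hz).symm
  have hconjmem : ∀ (L : Subgroup Q) (g : Q) {a : Q}, a ∈ L →
      g * a * g⁻¹ ∈ L.map (MulAut.conj g).toMonoidHom := fun L g a ha => ⟨a, ha, rfl⟩
  have hodd' : ∀ d ∈ D, ∀ L : Subgroup Q, d * d ∈ normalizer (L : Set Q) →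
      d ∈ normalizer (L : Set Q) := by
    intro d hd L h
    have hod : Odd n := hodd
    obtain ⟨j, hj⟩ := hod
    have : d = (d * d) ^ (j + 1) := by
      rw [← pow_two, ← pow_mul, show 2 * (j + 1) = n + 1 by omega, pow_succ, hpown d hd, one_mul]
    rw [this]
    exact pow_mem h _
  -- every element of `D` centralizes every component
  have hall : ∀ L : Subgroup Q, IsComponent L → D ≤ centralizer (L : Set Q) := by
    intro L hL
    by_cases hxL : x ∈ normalizer (L : Set Q)
    · refine hcon L hL hxL fun d hd => ?_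
      by_contra hdL
      obtain ⟨k, hkL, ⟨m, hm⟩, hkC, hz⟩ := exists_two_element hL hx hxL
      obtain ⟨z, hzdef⟩ : ∃ z, z = k⁻¹ * (x * k * x⁻¹) := ⟨_, rfl⟩
      have hzL : z ∈ L := hzdef ▸ mul_mem (inv_mem hkL) ((mem_normalizer_iff.1 hxL k).1 hkL)
      rw [← hzdef] at hz
      have hxk : x * k * x⁻¹ = k * z := by rw [hzdef, mul_inv_cancel_left]
      have hdz : d * z * d⁻¹ = z := hcen hL z hzL hz d hd
      obtain ⟨b, hb⟩ : ∃ b, b = d * k * d⁻¹ := ⟨_, rfl⟩
      have hzk : Commute z k := ((mem_centralizer_iff.1 hz) k hkL).symm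
      have hzb : Commute z b := by
        rw [← hdz, hb]
        exact conj_commute (fun l hl => ((mem_centralizer_iff.1 hz) l hl).symm) d hkL
      obtain ⟨u, hu⟩ : ∃ u, u = k⁻¹ * b := ⟨_, rfl⟩
      have hux : u * x = x * u := by
        have e1 : x * b * x⁻¹ = b * z := by
          have hxd : x * d = d * x := (hDx d hd).symm
          calc x * b * x⁻¹ = (x * d) * k * (x * d)⁻¹ := by rw [hb]; group
            _ = d * (x * k * x⁻¹) * d⁻¹ := by rw [hxd]; group
            _ = d * k * d⁻¹ * (d * z * d⁻¹) := by rw [hxk]; group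
            _ = b * z := by rw [hdz, hb]
        have e2 : x * u * x⁻¹ = u := by
          calc x * u * x⁻¹ = (x * k * x⁻¹)⁻¹ * (x * b * x⁻¹) := by rw [hu]; group
            _ = z⁻¹ * (k⁻¹ * b) * z := by rw [hxk, e1]; group
            _ = z⁻¹ * ((k⁻¹ * b) * z) := by group
            _ = z⁻¹ * (z * (k⁻¹ * b)) := by rw [((hzk.inv_right).mul_right hzb).eq]
            _ = u := by rw [hu]; group
        exact (mul_inv_eq_iff_eq_mul.1 e2).symm
      have hw : u⁻¹ * (d * u * d⁻¹) ∈ D := by
        have h := mul_mem (hnorm u⁻¹ ((Commute.inv_left (hux : Commute u x)).eq) d hd) (inv_mem hd)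
        simpa [mul_assoc] using h
      -- three distinct components
      have hM1 := Components.component_map_conj d hL
      have hM2 := Components.component_map_conj (d * d) hL
      have hne1 : L.map (MulAut.conj d).toMonoidHom ≠ L := fun h =>
        hdL (Components.map_conj_eq_iff_mem_normalizer.1 h)
      have hne2 : L.map (MulAut.conj (d * d)).toMonoidHom ≠ L := fun h =>
        hdL (hodd' d hd L (Components.map_conj_eq_iff_mem_normalizer.1 h))
      obtain ⟨c, hc⟩ : ∃ c, c = (d * d) * k * (d * d)⁻¹ := ⟨_, rfl⟩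
      have hbM : b ∈ L.map (MulAut.conj d).toMonoidHom := hb ▸ hconjmem L d hkL
      have hcM : c ∈ L.map (MulAut.conj (d * d)).toMonoidHom := hc ▸ hconjmem L (d * d) hkL
      have hkb : Commute k b := hcomm hL hM1 (Ne.symm hne1) k hkL b hbM
      have hkc : Commute k c := hcomm hL hM2 (Ne.symm hne2) k hkL c hcM
      have hweq : u⁻¹ * (d * u * d⁻¹) = k * (b⁻¹ * b⁻¹ * c) := by
        calc u⁻¹ * (d * u * d⁻¹)
            = b⁻¹ * k * ((d * k * d⁻¹)⁻¹ * (d * b * d⁻¹)) := by rw [hu]; group
          _ = b⁻¹ * k * (b⁻¹ * c) := by rw [← hb, hc, hb]; group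
          _ = k * b⁻¹ * (b⁻¹ * c) := by rw [hkb.inv_right.eq]
          _ = k * (b⁻¹ * b⁻¹ * c) := by group
      have hp := hpown _ hw
      rw [hweq, ((hkb.inv_right.mul_right hkb.inv_right).mul_right hkc).mul_pow] at hp
      refine hkC (mem_of_odd_pow hm hodd ?_)
      rw [eq_inv_of_mul_eq_one_left hp]
      refine inv_mem (pow_mem (mem_centralizer_iff.2 fun l hl => ?_) _)
      have hlb : Commute l b := hcomm hL hM1 (Ne.symm hne1) l hl b hbM
      have hlc : Commute l c := hcomm hL hM2 (Ne.symm hne2) l hl c hcM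
      exact ((hlb.inv_right.mul_right hlb.inv_right).mul_right hlc).eq
    · -- swapped components
      have hL' := Components.component_map_conj x hL
      have hLL' : L ≠ L.map (MulAut.conj x).toMonoidHom := fun h =>
        hxL (Components.map_conj_eq_iff_mem_normalizer.1 h.symm)
      obtain ⟨k0, hk0L, ⟨m0, hm0⟩, hk0C, -⟩ :=
        exists_two_element hL (x := 1) (one_mul 1) (one_mem _)
      have hxi : x⁻¹ = x := inv_eq_of_mul_eq_one_right hx
      have hu : ∀ k ∈ L, (k * (x * k * x⁻¹)) * x = x * (k * (x * k * x⁻¹)) := by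
        intro k hk
        have hc : Commute k (x * k * x⁻¹) := hcomm hL hL' hLL' k hk _ (hconjmem L x hk)
        calc (k * (x * k * x⁻¹)) * x = k * (x * k) := by group
          _ = (x * x) * (k * (x * k)) := by rw [hx, one_mul]
          _ = x * ((x * k * x) * k) := by
              rw [show x * k * x = x * k * x⁻¹ by rw [hxi]]
              rw [show x * x * (k * (x * k)) = x * ((x * k * x⁻¹) * (x * x) * k) by group, hx, mul_one]
          _ = x * ((x * k * x⁻¹) * k) := by rw [hxi]
          _ = x * (k * (x * k * x⁻¹)) := by rw [hc.eq]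
      intro d hd
      have hxd : x * d = d * x := (hDx d hd).symm
      have hconjx : ∀ a, d * (x * a * x⁻¹) * d⁻¹ = x * (d * a * d⁻¹) * x⁻¹ := fun a => by
        calc d * (x * a * x⁻¹) * d⁻¹ = (d * x) * a * (d * x)⁻¹ := by group
          _ = (x * d) * a * (x * d)⁻¹ := by rw [hxd]
          _ = _ := by group
      have hw : ∀ k ∈ L, k⁻¹ * (x * k⁻¹ * x⁻¹) * ((d * k * d⁻¹) * (x * (d * k * d⁻¹) * x⁻¹)) ∈ D := by
        intro k hk
        have hc : Commute k⁻¹ (x * k⁻¹ * x⁻¹) :=
          hcomm hL hL' hLL' _ (inv_mem hk) _ (hconjmem L x (inv_mem hk))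
        have h := mul_mem (hnorm (k * (x * k * x⁻¹))⁻¹
          ((Commute.inv_left (hu k hk : Commute _ x)).eq) d hd) (inv_mem hd)
        have e : k⁻¹ * (x * k⁻¹ * x⁻¹) * ((d * k * d⁻¹) * (x * (d * k * d⁻¹) * x⁻¹)) =
            (k * (x * k * x⁻¹))⁻¹ * d * ((k * (x * k * x⁻¹))⁻¹)⁻¹ * d⁻¹ := by
          rw [hc.eq, ← hconjx]; group
        rw [e]; exact h
      have hM := Components.component_map_conj d hL
      have hne_swap : L.map (MulAut.conj d).toMonoidHom ≠ L.map (MulAut.conj x).toMonoidHom := by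
        intro h
        have h2 : L.map (MulAut.conj (d * d)).toMonoidHom = L := by
          ext a
          constructor
          · rintro ⟨l, hl, rfl⟩
            obtain ⟨l2, hl2, he⟩ := h.le (hconjmem L d hl)
            have he' : x * l2 * x⁻¹ = d * l * d⁻¹ := he
            obtain ⟨l3, hl3, he3⟩ := h.le (hconjmem L d hl2)
            have he3' : x * l3 * x⁻¹ = d * l2 * d⁻¹ := he3
            show d * d * l * (d * d)⁻¹ ∈ L
            have : d * d * l * (d * d)⁻¹ = l3 := by
              calc d * d * l * (d * d)⁻¹ = d * (d * l * d⁻¹) * d⁻¹ := by group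
                _ = x * (x * l3 * x⁻¹) * x⁻¹ := by rw [← he', hconjx, he3']
                _ = (x * x) * l3 * (x * x)⁻¹ := by group
                _ = l3 := by rw [hx]; group
            rw [this]; exact hl3
          · intro ha
            obtain ⟨l2, hl2, he⟩ := h.ge (hconjmem L x ha)
            have he' : d * l2 * d⁻¹ = x * a * x⁻¹ := he
            obtain ⟨l3, hl3, he3⟩ := h.ge (hconjmem L x hl2)
            have he3' : d * l3 * d⁻¹ = x * l2 * x⁻¹ := he3
            refine ⟨l3, hl3, ?_⟩
            show d * d * l3 * (d * d)⁻¹ = a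
            calc d * d * l3 * (d * d)⁻¹ = d * (d * l3 * d⁻¹) * d⁻¹ := by group
              _ = x * (x * a * x⁻¹) * x⁻¹ := by rw [he3', hconjx, he']
              _ = (x * x) * a * (x * x)⁻¹ := by group
              _ = a := by rw [hx]; group
        have hdN := hodd' d hd L (Components.map_conj_eq_iff_mem_normalizer.1 h2)
        exact hLL' ((Components.map_conj_eq_iff_mem_normalizer.2 hdN).symm.trans h)
      by_cases hdL : L.map (MulAut.conj d).toMonoidHom = L
      · -- `d` normalizes the component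
        have hdN := Components.map_conj_eq_iff_mem_normalizer.1 hdL
        let N : Subgroup L :=
          { carrier := {l | ∃ l' ∈ L.map (MulAut.conj x).toMonoidHom, (l : Q) * l' ∈ D}
            one_mem' := ⟨1, one_mem _, by simp⟩
            mul_mem' := by
              rintro a b ⟨a', ha', ha⟩ ⟨b', hb', hb⟩
              refine ⟨a' * b', mul_mem ha' hb', ?_⟩
              have hc : Commute (b : Q) a' := hcomm hL hL' hLL' _ b.2 _ ha'
              have e : ((a * b : L) : Q) * (a' * b') = (a * a') * ((b : Q) * b') := by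
                rw [Subgroup.coe_mul]
                calc (a : Q) * b * (a' * b') = a * ((b : Q) * a') * b' := by group
                  _ = a * (a' * b) * b' := by rw [hc.eq]
                  _ = (a * a') * ((b : Q) * b') := by group
              rw [e]; exact mul_mem ha hb
            inv_mem' := by
              rintro a ⟨a', ha', ha⟩
              refine ⟨a'⁻¹, inv_mem ha', ?_⟩
              have hc : Commute (a : Q) a' := hcomm hL hL' hLL' _ a.2 _ ha'
              have e : ((a⁻¹ : L) : Q) * a'⁻¹ = ((a : Q) * a')⁻¹ := by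
                rw [hc.eq, mul_inv_rev, Subgroup.coe_inv]
              rw [e]; exact inv_mem ha }
        haveI : N.Normal := ⟨fun a ⟨a', ha', ha⟩ s => by
          have hsx : x * (s : Q) * x⁻¹ ∈ L.map (MulAut.conj x).toMonoidHom := hconjmem L x s.2
          refine ⟨(x * s * x⁻¹) * a' * (x * s * x⁻¹)⁻¹,
            mul_mem (mul_mem hsx ha') (inv_mem hsx), ?_⟩
          have hc : Commute (x * (s : Q) * x⁻¹) a :=
            (hcomm hL hL' hLL' _ a.2 _ hsx).symm
          have hc2 : Commute (x * (s : Q) * x⁻¹) (s : Q)⁻¹ :=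
            (hcomm hL hL' hLL' _ (inv_mem s.2) _ hsx).symm
          have h := hnorm _ (hu s s.2) _ ha
          have e : ((s * a * s⁻¹ : L) : Q) * ((x * s * x⁻¹) * a' * (x * s * x⁻¹)⁻¹) =
              (s * (x * s * x⁻¹)) * ((a : Q) * a') * (s * (x * s * x⁻¹))⁻¹ := by
            have hc3 : Commute (s : Q)⁻¹ (x * s * x⁻¹ * a' * (x * s * x⁻¹)⁻¹) :=
              hcomm hL hL' hLL' _ (inv_mem s.2) _ (mul_mem (mul_mem hsx ha') (inv_mem hsx))
            simp only [Subgroup.coe_mul, Subgroup.coe_inv]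
            calc (s : Q) * a * (s : Q)⁻¹ * (x * s * x⁻¹ * a' * (x * s * x⁻¹)⁻¹)
                = s * a * ((s : Q)⁻¹ * (x * s * x⁻¹ * a' * (x * s * x⁻¹)⁻¹)) := by group
              _ = s * ((a : Q) * (x * s * x⁻¹)) * a' * (x * s * x⁻¹)⁻¹ * (s : Q)⁻¹ := by
                  rw [hc3.eq]; group
              _ = s * ((x * s * x⁻¹) * a) * a' * (x * s * x⁻¹)⁻¹ * (s : Q)⁻¹ := by rw [hc.eq]
              _ = _ := by group
          rw [e]; exact h⟩
        have hNpow : ∀ a ∈ N, ((a : Q)) ^ n ∈ centralizer (L : Set Q) := by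
          rintro a ⟨a', ha', ha⟩
          have hp := hpown _ ha
          rw [(hcomm hL hL' hLL' _ a.2 _ ha').mul_pow] at hp
          rw [eq_inv_of_mul_eq_one_left hp]
          exact inv_mem (pow_mem (mem_centralizer_iff.2 fun l hl =>
            (hcomm hL hL' hLL' l hl a' ha').eq) _)
        have hNc : N ≤ center L := by
          rcases Components.normal_eq_top_or_le_center hL.2 N with h | h
          · exact absurd (mem_of_odd_pow hm0 hodd
              (hNpow ⟨k0, hk0L⟩ (h.ge (mem_top _)))) hk0C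
          · exact h
        refine Components.mem_centralizer_of_commutator_mem_centralizer
          (Components.component_commutator_eq_self hL) hdN fun l hl => ?_
        have hdl : d * l * d⁻¹ ∈ L := (mem_normalizer_iff.1 hdN l).1 hl
        have hmem : (⟨l⁻¹ * (d * l * d⁻¹), mul_mem (inv_mem hl) hdl⟩ : L) ∈ N := by
          refine ⟨(x * l⁻¹ * x⁻¹) * (x * (d * l * d⁻¹) * x⁻¹),
            mul_mem (hconjmem L x (inv_mem hl)) (hconjmem L x hdl), ?_⟩
          have hc : Commute (d * l * d⁻¹) (x * l⁻¹ * x⁻¹) :=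
            hcomm hL hL' hLL' _ hdl _ (hconjmem L x (inv_mem hl))
          have h := hw l hl
          have e : l⁻¹ * (d * l * d⁻¹) * ((x * l⁻¹ * x⁻¹) * (x * (d * l * d⁻¹) * x⁻¹)) =
              l⁻¹ * (x * l⁻¹ * x⁻¹) * ((d * l * d⁻¹) * (x * (d * l * d⁻¹) * x⁻¹)) := by
            calc _ = l⁻¹ * ((d * l * d⁻¹) * (x * l⁻¹ * x⁻¹)) * (x * (d * l * d⁻¹) * x⁻¹) := by group
              _ = l⁻¹ * ((x * l⁻¹ * x⁻¹) * (d * l * d⁻¹)) * (x * (d * l * d⁻¹) * x⁻¹) := by rw [hc.eq]
              _ = _ := by group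
          show l⁻¹ * (d * l * d⁻¹) * _ ∈ D
          rw [e]; exact h
        have hc : l⁻¹ * (d * l * d⁻¹) ∈ centralizer (L : Set Q) := mem_centralizer_iff.2
          fun g hg => congrArg Subtype.val (mem_center_iff.1 (hNc hmem) ⟨g, hg⟩)
        have e : d * l * d⁻¹ * l⁻¹ = l * (l⁻¹ * (d * l * d⁻¹)) * l⁻¹ := by group
        rw [e]
        exact Coprime.conj_mem_of_mem_normalizer
          (Coprime.le_normalizer_centralizer (A := L) le_normalizer hl) hc
      · -- four components
        exfalso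
        have hM' := Components.component_map_conj (x * d) hL
        have hne' : L ≠ L.map (MulAut.conj (x * d)).toMonoidHom := by
          intro h
          refine hne_swap ?_
          ext a
          constructor
          · rintro ⟨l, hl, rfl⟩
            refine ⟨x * d * l * (x * d)⁻¹, h.ge ⟨l, hl, rfl⟩, ?_⟩
            show x * (x * d * l * (x * d)⁻¹) * x⁻¹ = d * l * d⁻¹
            calc x * (x * d * l * (x * d)⁻¹) * x⁻¹ = (x * x) * (d * l * d⁻¹) * (x * x)⁻¹ := by group
              _ = _ := by rw [hx]; group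
          · rintro ⟨l, hl, rfl⟩
            obtain ⟨l2, hl2, he⟩ := h.le hl
            have he' : x * d * l2 * (x * d)⁻¹ = l := he
            refine ⟨l2, hl2, ?_⟩
            show d * l2 * d⁻¹ = x * l * x⁻¹
            rw [← he']
            calc d * l2 * d⁻¹ = (x * x) * (d * l2 * d⁻¹) * (x * x)⁻¹ := by rw [hx]; group
              _ = _ := by group
        refine hk0C (mem_of_odd_pow hm0 hodd ?_)
        have hbM := hconjmem L d hk0L
        have hb'M : x * (d * k0 * d⁻¹) * x⁻¹ ∈ L.map (MulAut.conj (x * d)).toMonoidHom := by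
          have := hconjmem L (x * d) hk0L
          have e : x * (d * k0 * d⁻¹) * x⁻¹ = x * d * k0 * (x * d)⁻¹ := by group
          rw [e]; exact this
        have hx1 := hconjmem L x (inv_mem hk0L)
        have hall : ∀ l ∈ L, Commute l ((x * k0⁻¹ * x⁻¹) *
            ((d * k0 * d⁻¹) * (x * (d * k0 * d⁻¹) * x⁻¹))) := fun l hl =>
          (hcomm hL hL' hLL' l hl _ hx1).mul_right
            ((hcomm hL hM (Ne.symm hdL) l hl _ hbM).mul_right (hcomm hL hM' hne' l hl _ hb'M))
        have hp := hpown _ (hw k0 hk0L)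
        rw [mul_assoc, (hall _ (inv_mem hk0L)).mul_pow] at hp
        rw [← inv_inv (k0 ^ n), ← inv_pow]
        refine inv_mem ?_
        rw [eq_inv_of_mul_eq_one_left hp]
        exact inv_mem (pow_mem (mem_centralizer_iff.2 fun l hl => (hall l hl).eq) _)
  -- conclusion
  apply hne
  have hDF : D ≤ centralizer (generalizedFittingSubgroup Q : Set Q) := by
    rw [generalizedFittingSubgroup, le_centralizer_iff]
    refine sup_le (Components.layer_le_iff.2 fun L hL => le_centralizer_iff.1 (hall L hL)) ?_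
    rw [Components.fitting_eq_pCore_of_pPrimeCore_eq_bot hO]
    exact le_centralizer_iff.1 hDP2
  set C := centralizer (generalizedFittingSubgroup Q : Set Q) with hC
  haveI : C.Normal := inferInstance
  have hCab : IsMulCommutative C := ⟨⟨fun a b => Subtype.ext
    (mem_centralizer_iff.1 b.2 a (Components.centralizer_generalizedFitting_le a.2))⟩⟩
  have hCF : C ≤ fittingSubgroup Q :=
    Fitting.le_fitting (inferInstance : C.Normal)
      (Subgroup.nilpotent_iff_lowerCentralSeries.2 ⟨1, by
        rw [Subgroup.lowerCentralSeries_succ, Subgroup.lowerCentralSeries_zero,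
          commutator_eq_bot_iff_le_centralizer]
        exact fun a _ => mem_centralizer_iff.2 fun b _ => hCab.1.1 b a⟩)
  rw [eq_bot_iff]
  intro d hd
  have h1 : d ∈ P2 := by
    show d ∈ pCore 2 Q
    rw [← Components.fitting_eq_pCore_of_pPrimeCore_eq_bot hO]
    exact hCF (hDF hd)
  obtain ⟨m, hm⟩ := hP2 ⟨d, h1⟩
  have hm' : d ^ 2 ^ m = 1 := congrArg Subtype.val hm
  refine mem_of_odd_pow hm' hodd ?_
  rw [hpown d hd]
  exact one_mem _

end Cfsg.Agent.UnbalTriple
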