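import Cfsg.Prelude.Def_Balance
import Cfsg.Agent.UnbalTriple.Basic

/-!
A failure of balance for commuting involutions gives an unbalancing triple.
-/

set_option autoImplicit false
set_option linter.style.haveILetI false

namespace Cfsg.Agent.UnbalTriple

open Subgroup
open scoped commutatorElement

local instance : Fact (Nat.Prime 2) := ⟨Nat.prime_two⟩

variable {G : Type*} [Group G] [Finite G]

theorem odd_centralizerPPrimeCore (x : G) : Odd (Nat.card (centralizerPPrimeCore 2 x)) := by
  rw [centralizerPPrimeCore,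
    ← Nat.card_congr (equivMapOfInjective _ _ (centralizer ({x} : Set G)).subtype_injective).toEquiv]
  exact Nat.coprime_two_right.1 Thompson.card_pPrimeCore_coprime

omit [Finite G] in
theorem centralizerPPrimeCore_le (x : G) :
    centralizerPPrimeCore 2 x ≤ centralizer ({x} : Set G) := map_subtype_le _

omit [Finite G] in
theorem conj_mem_centralizerPPrimeCore {x g : G} (hg : g ∈ centralizer ({x} : Set G)) {d : G}
    (hd : d ∈ centralizerPPrimeCore 2 x) : g * d * g⁻¹ ∈ centralizerPPrimeCore 2 x := by
  obtain ⟨d', hd', rfl⟩ := hd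
  exact ⟨_, (inferInstance : (pPrimeCore 2 (centralizer ({x} : Set G))).Normal).conj_mem d' hd'
    ⟨g, hg⟩, rfl⟩

/-- Commuting involutions which are not balanced give an unbalancing triple. -/
theorem exists_triple {a x : G} (hx : orderOf x = 2) (hax : Commute a x)
    (hun : ¬ centralizerPPrimeCore 2 x ⊓ centralizer ({a} : Set G) ≤ centralizerPPrimeCore 2 a) :
    ∃ L : Subgroup ↥(centralizer ({a} : Set G)),
      IsPComponent 2 L ∧ (∀ l ∈ L.map (centralizer ({a} : Set G)).subtype,
        x * l * x⁻¹ ∈ L.map (centralizer ({a} : Set G)).subtype) ∧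
      L.map (centralizer ({a} : Set G)).subtype =
        (oddCore ↥L).map ((centralizer ({a} : Set G)).subtype.comp L.subtype) ⊔
          ⁅L.map (centralizer ({a} : Set G)).subtype,
            centralizerPPrimeCore 2 x ⊓ centralizer ({a} : Set G)⁆ := by
  classical
  set C := centralizer ({a} : Set G)
  obtain ⟨D0, hD0⟩ : ∃ D0 : Subgroup C, D0 = (centralizerPPrimeCore 2 x).subgroupOf C := ⟨_, rfl⟩
  have hDC : centralizerPPrimeCore 2 x ⊓ C = D0.map C.subtype := by
    rw [hD0, subgroupOf_map_subtype]
  let xC : C := ⟨x, mem_centralizer_singleton_iff.2 hax.eq.symm⟩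
  have hxx : x * x = 1 := by rw [← pow_two, ← hx, pow_orderOf_eq_one]
  let π := QuotientGroup.mk' (pPrimeCore 2 C)
  have hπ : Function.Surjective π := QuotientGroup.mk'_surjective _
  have hD0x : ∀ d ∈ D0, d * xC = xC * d := fun d hd => Subtype.ext (by
    rw [hD0] at hd
    exact mem_centralizer_singleton_iff.1 (centralizerPPrimeCore_le x (mem_subgroupOf.1 hd)))
  have hD0odd : Odd (Nat.card D0) := by
    refine Odd.of_dvd_nat (odd_centralizerPPrimeCore x) ?_
    rw [Nat.card_congr (equivMapOfInjective _ _ C.subtype_injective).toEquiv, ← hDC]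
    exact card_dvd_of_le inf_le_left
  have hne : D0.map π ≠ ⊥ := by
    intro h
    apply hun
    rw [hDC]
    rintro _ ⟨d, hd, rfl⟩
    refine ⟨d, ?_, rfl⟩
    rw [Subgroup.map_eq_bot_iff, QuotientGroup.ker_mk'] at h
    exact h hd
  obtain ⟨Lb, hLb, hxLb, hDLb, hDcLb⟩ := exists_moved_component
    (Q := C ⧸ pPrimeCore 2 C) Thompson.pPrimeCore_quotient_pPrimeCore
    (x := π xC) (by rw [← map_mul, show xC * xC = 1 from Subtype.ext hxx, map_one])
    (D0.map π) (hD0odd.of_dvd_nat (card_map_dvd _ _))
    (by rintro _ ⟨d, hd, rfl⟩; rw [← map_mul, ← map_mul, hD0x d hd])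
    (by
      intro c hc _ hdm
      obtain ⟨d, hd, rfl⟩ := hdm
      obtain ⟨w, rfl⟩ := hπ c
      have hN : zpowers xC ≤ normalizer ((pPrimeCore 2 C : Subgroup C) : Set C) := by
        rw [normalizer_eq_top_iff.2 inferInstance]; exact le_top
      have hwN : w ∈ normalizer ((pPrimeCore 2 C : Subgroup C) : Set C) := by
        rw [normalizer_eq_top_iff.2 inferInstance]; exact mem_top _
      have hcop : (Nat.card (zpowers xC)).Coprime (Nat.card (pPrimeCore 2 C)) := by
        refine Nat.Coprime.coprime_dvd_left (k := 2) ?_ Thompson.card_pPrimeCore_coprime.symm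
        rw [Nat.card_zpowers]
        exact orderOf_dvd_of_pow_eq_one (by rw [pow_two]; exact Subtype.ext hxx)
      have hxwN : zpowers xC ≤ ((centralizer ({π w} : Set _)).comap π) := by
        rw [zpowers_le, mem_comap, mem_centralizer_singleton_iff]
        exact hc.symm
      obtain ⟨n, hn, hwn⟩ := Coprime.exists_fixed_in_coset_of_normal (zpowers xC)
        (pPrimeCore 2 C) hN hcop (Or.inl (Group.isSolvable_of_comm fun u v => mul_comm' u v)) w hwN
        (fun y hy => by
          rw [← QuotientGroup.eq_one_iff, ← QuotientGroup.mk'_apply, map_mul, map_mul, map_mul,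
            map_inv, map_inv]
          show π y * π w * (π y)⁻¹ * (π w)⁻¹ = 1
          have hyw : π y * π w = π w * π y := mem_centralizer_singleton_iff.1 (mem_comap.1 (hxwN hy))
          rw [hyw, mul_inv_cancel_right, mul_inv_cancel])
      refine ⟨w * n * d * (w * n)⁻¹, ?_, ?_⟩
      · rw [hD0] at hd
        rw [hD0]
        refine mem_subgroupOf.2 (conj_mem_centralizerPPrimeCore (mem_centralizer_singleton_iff.2 ?_)
          (mem_subgroupOf.1 hd))
        exact (congrArg Subtype.val (mem_centralizer_iff.1 hwn xC (mem_zpowers xC))).symm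
      · have hn1 : π n = 1 := (QuotientGroup.eq_one_iff n).2 hn
        simp only [map_mul, map_inv, hn1, mul_one])
    hne
  refine ⟨Components.pComponentOf 2 Lb, Components.isPComponent_pComponentOf hLb, ?_, ?_⟩
  · rintro _ ⟨l, hl, rfl⟩
    refine ⟨xC * l * xC⁻¹, ?_, rfl⟩
    have hx' : xC ∈ normalizer ((Lb.comap π : Subgroup C) : Set C) :=
      le_normalizer_comap π (mem_comap.2 hxLb)
    exact (mem_normalizer_iff.1
      (Components.normalizer_le_normalizer_pElementsClosure 2 _ hx') l).1 hl
  · set L := Components.pComponentOf 2 Lb with hLdef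
    have hLc := Components.isPComponent_pComponentOf hLb
    have hDL : D0 ≤ normalizer (L : Set C) := fun d hd =>
      Components.normalizer_le_normalizer_pElementsClosure 2 _
        (le_normalizer_comap π (mem_comap.2 (hDLb ⟨d, hd, rfl⟩)))
    have hW : ⁅L, D0⁆ ≤ L := Coprime.commutator_le_of_le_normalizer hDL
    have hWmap : ⁅L, D0⁆.map π = Lb := by
      rw [map_commutator, Components.map_pComponentOf hLb]
      refine le_antisymm (Coprime.commutator_le_of_le_normalizer hDLb) ?_
      haveI : (⁅Lb, D0.map π⁆.subgroupOf Lb).Normal :=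
        (normal_subgroupOf_iff_le_normalizer (Coprime.commutator_le_of_le_normalizer hDLb)).2
          (Coprime.le_normalizer_commutator_left _ _)
      rcases Components.normal_eq_top_or_le_center hLb.2 (⁅Lb, D0.map π⁆.subgroupOf Lb) with h | h
      · exact subgroupOf_eq_top.1 h
      · exfalso
        apply hDcLb
        intro d hd
        refine Components.mem_centralizer_of_commutator_mem_centralizer
          (Components.component_commutator_eq_self hLb) (hDLb hd) fun l hl => ?_
        have hm : ⁅l, d⁆ ∈ ⁅Lb, D0.map π⁆ := commutator_mem_commutator hl hd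
        have hm2 := mem_center_iff.1 (h (show (⟨⁅l, d⁆,
          Coprime.commutator_le_of_le_normalizer hDLb hm⟩ : Lb) ∈ _ from hm))
        have e : d * l * d⁻¹ * l⁻¹ = ⁅l, d⁆⁻¹ := by simp [commutatorElement_def, mul_assoc]
        rw [e]
        exact inv_mem (mem_centralizer_iff.2 fun g hg => congrArg Subtype.val (hm2 ⟨g, hg⟩))
    rw [hDC, ← map_commutator]
    refine le_antisymm ?_ (sup_le ?_ (map_mono hW))
    · rintro _ ⟨l, hl, rfl⟩
      have hl' : π l ∈ Lb := by
        have h : L.map π = Lb := Components.map_pComponentOf hLb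
        exact h.le (mem_map_of_mem π hl)
      obtain ⟨w, hw, hwl⟩ := hWmap.ge hl'
      have hlw : l * w⁻¹ ∈ L ⊓ pPrimeCore 2 C := by
        refine ⟨L.mul_mem hl (L.inv_mem (hW hw)), ?_⟩
        refine SetLike.mem_coe.2 ((QuotientGroup.eq_one_iff _).1 ?_)
        rw [← QuotientGroup.mk'_apply, map_mul, map_inv]
        exact mul_inv_eq_one.2 hwl.symm
      rw [← Components.map_pPrimeCore_subtype_eq hLc.1] at hlw
      obtain ⟨o, ho, hol⟩ := hlw
      have e : C.subtype l = C.subtype (L.subtype o) * C.subtype w := by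
        rw [hol, ← map_mul, inv_mul_cancel_right]
      rw [e]
      exact mul_mem_sup ⟨o, ho, rfl⟩ ⟨w, hw, rfl⟩
    · rintro _ ⟨o, -, rfl⟩
      exact mem_map_of_mem C.subtype o.2

/-- Without unbalancing triples the cores of involution centralizers are balanced. -/
theorem balanced_of_no_triple
    (h : ¬ ∃ (a x : G) (L : Subgroup ↥(centralizer ({a} : Set G))), orderOf a = 2 ∧ orderOf x = 2 ∧
      Commute a x ∧ IsPComponent 2 L ∧ (∀ l ∈ L.map (centralizer ({a} : Set G)).subtype,
        x * l * x⁻¹ ∈ L.map (centralizer ({a} : Set G)).subtype) ∧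
      L.map (centralizer ({a} : Set G)).subtype =
        (oddCore ↥L).map ((centralizer ({a} : Set G)).subtype.comp L.subtype) ⊔
          ⁅L.map (centralizer ({a} : Set G)).subtype,
            centralizerPPrimeCore 2 x ⊓ centralizer ({a} : Set G)⁆)
    {a x : G} (ha : orderOf a = 2) (hx : orderOf x = 2) (hax : Commute a x) :
    centralizerPPrimeCore 2 x ⊓ centralizer ({a} : Set G) ≤ centralizerPPrimeCore 2 a := by
  by_contra hun
  obtain ⟨L, h1, h2, h3⟩ := exists_triple hx hax hun
  exact h ⟨a, x, L, ha, hx, hax, h1, h2, h3⟩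

end Cfsg.Agent.UnbalTriple
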